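import Cfsg.Agent.S2131
import Cfsg.Agent.S0457
import Cfsg.Agent.Lib.Gold.Sec

set_option autoImplicit false

namespace Cfsg.Agent.Lib.Gold.J1

open Subgroup Cfsg

universe u

/-- 2-subgroups of `A₅` are commutative. -/
theorem comm_of_two_A5 (W : Subgroup (alternatingGroup (Fin 5))) (hW : IsPGroup 2 W) (a b : W) :
    a * b = b * a := by
  haveI : Fact (Nat.Prime 2) := ⟨Nat.prime_two⟩
  obtain ⟨k, hk⟩ := IsPGroup.iff_card.1 hW
  have h60 : Nat.card (alternatingGroup (Fin 5)) = 60 := by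
    rw [Nat.card_eq_fintype_card]; decide
  have hd : 2 ^ k ∣ 60 := by
    rw [← hk, ← h60]; exact Subgroup.card_subgroup_dvd_card W
  have hk2 : k ≤ 2 := by
    by_contra hlt
    push Not at hlt
    have : 2 ^ 3 ∣ 2 ^ k := pow_dvd_pow 2 hlt
    have h8 : (8 : ℕ) ∣ 60 := by
      have h : (2 : ℕ) ^ 3 ∣ 60 := this.trans hd
      simpa using h
    omega
  interval_cases k
  · haveI : Subsingleton W := (Nat.card_eq_one_iff_unique.1 (by simpa using hk)).1
    exact Subsingleton.elim _ _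
  · have h2 : Nat.card W = 2 := by simpa using hk
    haveI : IsCyclic W := isCyclic_of_prime_card h2
    exact (IsCyclic.isMulCommutative (α := W)).is_comm.comm a b
  · exact (IsPGroup.isMulCommutative_of_card_eq_prime_sq (p := 2) hk).is_comm.comm a b

/-- The abstract Sylow statement. -/
theorem sylow_comm {G : Type u} [Group G] [Finite G] (hc : Nat.card G = 175560) (t : G)
    (e : centralizer ({t} : Set G) ≃* Multiplicative (ZMod 2) × alternatingGroup (Fin 5))
    (P : Sylow 2 G) : ∀ a ∈ (P : Subgroup G), ∀ b ∈ (P : Subgroup G), a * b = b * a := by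
  haveI : Fact (Nat.Prime 2) := ⟨Nat.prime_two⟩
  set C := centralizer ({t} : Set G) with hC
  have h60 : Nat.card (alternatingGroup (Fin 5)) = 60 := by
    rw [Nat.card_eq_fintype_card]; decide
  have hcC : Nat.card C = 120 := by
    rw [Nat.card_congr e.toEquiv, Nat.card_prod, h60]
    simp [Nat.card_eq_fintype_card, ZMod.card]
  -- a Sylow subgroup of `C`
  obtain ⟨Q⟩ : Nonempty (Sylow 2 C) := inferInstance
  have hQ8 : Nat.card Q = 8 := by
    have h1 := Q.card_eq_multiplicity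
    rw [hcC] at h1
    have h2 : (120 : ℕ).factorization 2 = 3 := by
      have e120 : (120 : ℕ) = 2 ^ 3 * 15 := by norm_num
      rw [e120, Nat.factorization_mul (by norm_num) (by norm_num), Nat.factorization_pow]
      simp [Nat.factorization_eq_zero_of_not_dvd (show ¬ 2 ∣ 15 by norm_num), Nat.prime_two.factorization_self]
    rw [h2] at h1
    simpa using h1
  set Q' := (Q : Subgroup C).map C.subtype with hQ'
  have hcQ' : Nat.card Q' = 8 := by
    rw [← hQ8]
    exact Nat.card_congr ((Q : Subgroup C).equivMapOfInjective _ C.subtype_injective).symm.toEquiv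
  -- `Q'` commutative
  have hQcomm : ∀ a ∈ Q', ∀ b ∈ Q', a * b = b * a := by
    rintro _ ⟨a, ha, rfl⟩ _ ⟨b, hb, rfl⟩
    have hW : IsPGroup 2 ((Q : Subgroup C).map ((MonoidHom.snd _ _).comp e.toMonoidHom)) :=
      Q.isPGroup'.map _
    have h1 := comm_of_two_A5 _ hW
      ⟨_, ⟨a, ha, rfl⟩⟩ ⟨_, ⟨b, hb, rfl⟩⟩
    have h2 : e (a * b) = e (b * a) := by
      rw [map_mul, map_mul]
      refine Prod.ext ?_ ?_
      · exact mul_comm _ _
      · exact congrArg Subtype.val h1
    have h3 := e.injective h2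
    exact congrArg Subtype.val h3
  -- a Sylow subgroup of `G` containing `Q'`
  have hQp : IsPGroup 2 Q' := IsPGroup.of_card (n := 3) (by rw [hcQ']; norm_num)
  obtain ⟨R, hR⟩ := hQp.exists_le_sylow
  obtain ⟨k, hk⟩ := IsPGroup.iff_card.1 R.isPGroup'
  have hd : 2 ^ k ∣ 175560 := by
    rw [← hk, ← hc]; exact Subgroup.card_subgroup_dvd_card _
  have hk3 : k ≤ 3 := by
    by_contra hlt
    push Not at hlt
    have : 2 ^ 4 ∣ 2 ^ k := pow_dvd_pow 2 hlt
    have h16 : (16 : ℕ) ∣ 175560 := by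
      have h : (2 : ℕ) ^ 4 ∣ 175560 := this.trans hd
      simpa using h
    omega
  have h8R : (8 : ℕ) ∣ 2 ^ k := by
    rw [← hk, ← hcQ']; exact Subgroup.card_dvd_of_le hR
  have hRQ : (Q' : Subgroup G) = R := by
    have hk3' : k = 3 := by
      interval_cases k <;> simp_all
    apply Subgroup.eq_of_le_of_card_ge hR
    rw [hk, hk3', hcQ']
    norm_num
  have hRcomm : ∀ a ∈ (R : Subgroup G), ∀ b ∈ (R : Subgroup G), a * b = b * a := by
    rw [← hRQ]; exact hQcomm
  intro a ha b hb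
  let f := Sylow.equiv P R
  have h4 : f ⟨a, ha⟩ * f ⟨b, hb⟩ = f ⟨b, hb⟩ * f ⟨a, ha⟩ := by
    apply Subtype.ext
    exact hRcomm _ (f ⟨a, ha⟩).2 _ (f ⟨b, hb⟩).2
  have h5 : (⟨a, ha⟩ * ⟨b, hb⟩ : (P : Subgroup G)) = ⟨b, hb⟩ * ⟨a, ha⟩ := by
    apply f.injective
    rw [map_mul, map_mul]
    exact h4
  exact congrArg Subtype.val h5

/-- `x`, `s` in `A₅`. -/
def x5 : alternatingGroup (Fin 5) := ⟨Equiv.swap 0 1 * Equiv.swap 1 2, by rw [Equiv.Perm.mem_alternatingGroup]; decide⟩
def s5 : alternatingGroup (Fin 5) := ⟨Equiv.swap 0 1 * Equiv.swap 3 4, by rw [Equiv.Perm.mem_alternatingGroup]; decide⟩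

theorem x5_pow : x5 ^ 3 = 1 := by decide
theorem x5_ne : x5 ≠ 1 := by decide
theorem s5_pow : s5 ^ 2 = 1 := by decide
theorem s5_ne : s5 ≠ 1 := by decide
theorem s5_x5 : s5 * x5 * s5⁻¹ = x5⁻¹ := by decide

/-- Inside `G`: elements of order 3 and 2 generating `S₃`. -/
theorem exists_dih {G : Type u} [Group G] (t : G)
    (e : centralizer ({t} : Set G) ≃* Multiplicative (ZMod 2) × alternatingGroup (Fin 5)) :
    ∃ x s : G, orderOf x = 3 ∧ orderOf s = 2 ∧ s * x * s⁻¹ = x⁻¹ := by
  let f : alternatingGroup (Fin 5) →* G :=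
    (centralizer ({t} : Set G)).subtype.comp
      (e.symm.toMonoidHom.comp (MonoidHom.inr (Multiplicative (ZMod 2)) (alternatingGroup (Fin 5))))
  have hf : Function.Injective f := by
    intro a b hab
    have h1 := Subtype.val_injective hab
    have h2 := e.symm.injective h1
    exact (Prod.ext_iff.1 h2).2
  refine ⟨f x5, f s5, ?_, ?_, ?_⟩
  · rw [orderOf_injective f hf]
    haveI : Fact (Nat.Prime 3) := ⟨by norm_num⟩
    exact orderOf_eq_prime x5_pow x5_ne
  · rw [orderOf_injective f hf]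
    exact orderOf_eq_prime s5_pow s5_ne
  · rw [← map_inv, ← map_inv, ← map_mul, ← map_mul, s5_x5]

/-- The centralizer transported by an isomorphism. -/
noncomputable def centEquiv {G H : Type*} [Group G] [Group H] (φ : G ≃* H) (t : H) :
    centralizer ({φ.symm t} : Set G) ≃* centralizer ({t} : Set H) where
  toFun g := ⟨φ g, by
    rw [mem_centralizer_iff]
    intro h hh
    rw [show h = t from hh]
    have := mem_centralizer_iff.1 g.2 (φ.symm t) rfl
    have h2 := congrArg φ this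
    simpa using h2⟩
  invFun g := ⟨φ.symm g, by
    rw [mem_centralizer_iff]
    intro h hh
    rw [show h = φ.symm t from hh]
    have := mem_centralizer_iff.1 g.2 t rfl
    have h2 := congrArg φ.symm this
    simpa using h2⟩
  left_inv g := by simp
  right_inv g := by simp
  map_mul' a b := by
    apply Subtype.ext
    simp

/-- `J₁`: all Sylow `2`-subgroups are commutative, and there are elements of orders 3 and 2 with the second
inverting the first. -/
theorem j1_facts {X : Type*} [Group X] [Finite X] (h : Cfsg.Spor.IsoJ1 X) :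
    (∀ P : Sylow 2 X, ∀ a ∈ (P : Subgroup X), ∀ b ∈ (P : Subgroup X), a * b = b * a) ∧
      ∃ x s : X, orderOf x = 3 ∧ orderOf s = 2 ∧ s * x * s⁻¹ = x⁻¹ := by
  obtain ⟨φ⟩ := h
  obtain ⟨t, -, ⟨e⟩⟩ := Cfsg.Agent.S2131.result
  have hc : Nat.card X = 175560 := by
    rw [Nat.card_congr φ.toEquiv]
    obtain ⟨x, y, hx, hy, hJ⟩ := Cfsg.Agent.S0457.result
    have hx' : x = Cfsg.Spor.jankoX := Units.ext hx
    have hy' : y = Cfsg.Spor.jankoY := Units.ext hy
    subst hx' hy'
    exact hJ.2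
  let e' := (centEquiv φ t).trans e
  exact ⟨sylow_comm hc _ e', exists_dih _ e'⟩

/-- [J1] of S2755. -/
theorem j1_case {X : Type*} [Group X] [Finite X] (h : Cfsg.Spor.IsoJ1 X) :
    ¬ Cfsg.Involves (Equiv.Perm (Fin 4)) X ∧ Cfsg.Involves (Equiv.Perm (Fin 3)) X := by
  obtain ⟨h1, x, s, hx, hs, hxs⟩ := j1_facts h
  have hx3 : x ^ 3 = 1 := hx ▸ pow_orderOf_eq_one x
  have hx1 : x ≠ 1 := by
    rintro rfl
    simp at hx
  have hs2 : s * s = 1 := by
    rw [← pow_two, ← hs]
    exact pow_orderOf_eq_one s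
  exact ⟨Cfsg.Agent.Lib.Gold.Sec.not_involves_s4_of_abelian h1,
    Cfsg.Agent.Lib.Gold.Sec.involves_s3_of_inverted hx3 hx1 hs2 hxs⟩

end Cfsg.Agent.Lib.Gold.J1
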