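import Cfsg.Agent.Lib.Gold.ReeCore
import Cfsg.Agent.Lib.Gold.Sec
import Cfsg.Agent.Lib.PLocal.BorelTorus

/-!
# S2755, the local argument for groups of Ree type

`C(t) = ⟨t⟩ × K`, `K ≅ PSL₂(F)`, `|F| = 3^(2n+1)`, and `3^(2n+2)` divides `|G|`: then `t` inverts
an element of order `3`, so that `S₃` is involved in `G`.
-/

set_option autoImplicit false

namespace Cfsg.Agent.Lib.Gold.Ree

open Subgroup Cfsg Matrix
open scoped MatrixGroups
open Cfsg.Agent.Lib.PLocal.BorelTwo Cfsg.Agent.Lib.PLocal.BorelTorus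

section PSL

variable {F : Type*} [Field F]

lemma uP_comm {a b : PSL(2, F)} (ha : a ∈ uP F) (hb : b ∈ uP F) : a * b = b * a := by
  obtain ⟨a', ha', rfl⟩ := ha
  obtain ⟨b', hb', rfl⟩ := hb
  rw [uu_ent a' ha', uu_ent b' hb', ← map_mul, ← map_mul, uu_mul, uu_mul, add_comm]

lemma pr_dd_neg_one (h : (-1 : F) ≠ 0) : pr F (dd (-1) h) = 1 := by
  apply (QuotientGroup.eq_one_iff _).2
  rw [Matrix.SpecialLinearGroup.mem_center_iff]
  refine ⟨-1, by simp, ?_⟩
  ext i j
  fin_cases i <;> fin_cases j <;> simp [dd]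

/-- The centralizer of `uP` is `uP`. -/
lemma cent_uP (k : PSL(2, F)) (hk : ∀ u ∈ uP F, u * k = k * u) : k ∈ uP F := by
  obtain ⟨g, rfl⟩ := pr_surj k
  have h1 : pr F (uu 1) ∈ uP F := ⟨uu 1, uu_mem 1, rfl⟩
  have hb : g ∈ bT F := by
    by_contra hg
    have hk' : pr F g ∉ bP F := fun h => hg (mem_bP_iff.1 h)
    have h2 : pr F g * pr F (uu 1) * (pr F g)⁻¹ = pr F (uu 1) := by
      rw [← hk _ h1]; group
    apply pr_uu_one_ne (F := F)
    refine uP_conj hk' h1 ?_
    rw [h2]
    exact Subgroup.map_mono uT_le_bT h1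
  have hb0 : g.1 1 0 = 0 := hb
  have hdet : g.1 0 0 * g.1 1 1 = 1 := by
    have := det_eq g
    rwa [hb0, mul_zero, sub_zero] at this
  have hconj : g * uu 1 * g⁻¹ = uu ((g.1 0 0) ^ 2) := by
    obtain ⟨i1, i2, i3, i4⟩ := inv_ent g
    apply sl_ext <;> simp only [ent_mul, i1, i2, i3, i4] <;> simp [uu, hb0]
    · exact hdet
    · ring
    · rw [mul_comm]; exact hdet
  have h3 : pr F (uu ((g.1 0 0) ^ 2)) = pr F (uu 1) := by
    rw [← hconj, map_mul, map_mul, map_inv, ← hk _ h1]
    group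
  have h4 := pr_eq_iff.1 h3
  have h5 : (uu ((g.1 0 0) ^ 2))⁻¹ * uu 1 = uu (1 - (g.1 0 0) ^ 2) := by
    rw [inv_mul_eq_iff_eq_mul, uu_mul]
    congr 1
    ring
  rw [h5] at h4
  have h6 := (mem_center_ent h4).2.1
  simp only [uu] at h6
  have h7 : (1 : F) - (g.1 0 0) ^ 2 = 0 := by simpa using h6
  have h8 : (g.1 0 0 - 1) * (g.1 0 0 + 1) = 0 := by linear_combination -h7
  rcases mul_eq_zero.1 h8 with h9 | h9
  · -- `a = 1`
    have ha : g.1 0 0 = 1 := sub_eq_zero.1 h9
    have hd : g.1 1 1 = 1 := by rw [ha, one_mul] at hdet; exact hdet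
    exact ⟨g, ⟨hb0, ha, hd⟩, rfl⟩
  · -- `a = -1`
    have ha : g.1 0 0 = -1 := by linear_combination h9
    have hd : g.1 1 1 = -1 := by
      rw [ha] at hdet
      linear_combination -hdet
    have hne : (-1 : F) ≠ 0 := neg_ne_zero.2 one_ne_zero
    refine ⟨g * dd (-1) hne, ⟨?_, ?_, ?_⟩, ?_⟩
    · rw [ent_mul]; simp [dd, hb0]
    · rw [ent_mul]; simp [dd, ha]
    · rw [ent_mul]; simp [dd, hd, hb0]
    · rw [map_mul, pr_dd_neg_one hne, mul_one]

/-- A `p`-element normalizing `uP` lies in `uP`. -/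
lemma mem_uP_of_norm {p : ℕ} [Fact p.Prime] [CharP F p] [Fintype F] {k : PSL(2, F)}
    (hk : k ∈ normalizer ((uP F : Subgroup PSL(2, F)) : Set PSL(2, F))) {a : ℕ} (ha : k ^ p ^ a = 1) :
    k ∈ uP F := by
  obtain ⟨g, rfl⟩ := pr_surj k
  have h1 : pr F (uu 1) ∈ uP F := ⟨uu 1, uu_mem 1, rfl⟩
  have hb : g ∈ bT F := by
    by_contra hg
    have hk' : pr F g ∉ bP F := fun h => hg (mem_bP_iff.1 h)
    apply pr_uu_one_ne (F := F)
    refine uP_conj hk' h1 ?_
    exact Subgroup.map_mono uT_le_bT ((mem_normalizer_iff.1 hk _).1 h1)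
  exact mem_uP_of_pow hb ha

lemma card_uP' (F : Type) [Field F] [Fintype F] : Nat.card (uP F) = Fintype.card F := by
  have hinj : Function.Injective (fun r : F => (⟨pr F (uu r), ⟨uu r, uu_mem r, rfl⟩⟩ : uP F)) := by
    intro a b hab
    have h1 : pr F (uu a) = pr F (uu b) := congrArg Subtype.val hab
    have h2 : pr F (uu (a - b)) = 1 := by
      have e : uu (a - b) = uu a * (uu b)⁻¹ := by
        apply eq_mul_inv_of_mul_eq
        rw [uu_mul, sub_add_cancel]
      rw [e, map_mul, map_inv, h1, mul_inv_cancel]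
    have h3 : uu (a - b) ∈ Subgroup.center SL(2, F) := (QuotientGroup.eq_one_iff _).1 h2
    have h4 := (mem_center_ent h3).2.1
    simp only [uu] at h4
    have h5 : a - b = 0 := by simpa using h4
    exact sub_eq_zero.1 h5
  have hsurj : Function.Surjective (fun r : F => (⟨pr F (uu r), ⟨uu r, uu_mem r, rfl⟩⟩ : uP F)) := by
    rintro ⟨_, g, hg, rfl⟩
    refine ⟨g.1 0 1, ?_⟩
    apply Subtype.ext
    simp only
    rw [← uu_ent g hg]
  rw [← Nat.card_eq_fintype_card]
  exact (Nat.card_congr (Equiv.ofBijective _ ⟨hinj, hsurj⟩)).symm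

end PSL

section Main

variable {G : Type*} [Group G]

/-- An element of `N(U)` outside `U` with a `p`-power order, when `U` is not Sylow. -/
lemma exists_norm_elt [Finite G] {p : ℕ} [Fact p.Prime] {U : Subgroup G} {n : ℕ}
    (hU : Nat.card U = p ^ n) (hdvd : p ^ (n + 1) ∣ Nat.card G) :
    ∃ y ∈ normalizer (U : Set G), y ∉ U ∧ ∃ r : ℕ, y ^ p ^ r = 1 := by
  have hnrm : (U.comap (normalizer (U : Set G)).subtype).Normal := Subgroup.normal_in_normalizer
  have h1 := Sylow.prime_dvd_card_quotient_normalizer hdvd hU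
  obtain ⟨x, hx⟩ := exists_prime_orderOf_dvd_card' p h1
  obtain ⟨y, rfl⟩ := QuotientGroup.mk'_surjective _ x
  refine ⟨y, y.2, ?_, n + 1, ?_⟩
  · intro hy
    have : QuotientGroup.mk' (U.comap (normalizer (U : Set G)).subtype) y = 1 :=
      (QuotientGroup.eq_one_iff _).2 hy
    rw [this, orderOf_one] at hx
    exact (Fact.out : p.Prime).one_lt.ne hx
  · have h2 : QuotientGroup.mk' (U.comap (normalizer (U : Set G)).subtype) (y ^ p) = 1 := by
      rw [map_pow, ← hx, pow_orderOf_eq_one]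
    have h3 : ((y : G) ^ p) ∈ U := by
      have := (QuotientGroup.eq_one_iff _).1 h2
      exact this
    have h4 : ((y : G) ^ p) ^ Nat.card U = 1 := by
      have h5 : (⟨_, h3⟩ : U) ^ Nat.card U = 1 := pow_card_eq_one'
      exact congrArg Subtype.val h5
    rw [hU, ← pow_mul, ← pow_succ'] at h4
    exact h4

/-- The decomposition of `C(t)`. -/
lemma decomp {t : G} {K : Subgroup G} (ht : t * t = 1)
    (hK : IsInternalDirectProduct (zpowers t) K (centralizer ({t} : Set G)))
    {x : G} (hx : x ∈ centralizer ({t} : Set G)) : x ∈ K ∨ ∃ k ∈ K, x = t * k := by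
  have hc : ∀ k ∈ K, t * k = k * t := fun k hk => hK.2.2.1 t (mem_zpowers t) k hk
  let H : Subgroup G :=
    { carrier := {x | x ∈ K ∨ ∃ k ∈ K, x = t * k}
      one_mem' := Or.inl K.one_mem
      mul_mem' := by
        rintro a b (ha | ⟨a', ha', rfl⟩) (hb | ⟨b', hb', rfl⟩)
        · exact Or.inl (K.mul_mem ha hb)
        · refine Or.inr ⟨a * b', K.mul_mem ha hb', ?_⟩
          rw [← mul_assoc, ← hc a ha, mul_assoc]
        · refine Or.inr ⟨a' * b, K.mul_mem ha' hb, ?_⟩
          rw [mul_assoc]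
        · refine Or.inl ?_
          have : t * a' * (t * b') = a' * b' := by
            calc t * a' * (t * b') = (t * a') * t * b' := by group
              _ = (a' * t) * t * b' := by rw [hc a' ha']
              _ = a' * (t * t) * b' := by group
              _ = a' * b' := by rw [ht, mul_one]
          rw [this]
          exact K.mul_mem ha' hb'
      inv_mem' := by
        rintro a (ha | ⟨a', ha', rfl⟩)
        · exact Or.inl (K.inv_mem ha)
        · refine Or.inr ⟨a'⁻¹, K.inv_mem ha', ?_⟩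
          have ht' : t⁻¹ = t := inv_eq_of_mul_eq_one_left ht
          rw [_root_.mul_inv_rev, ht']
          have : t * a'⁻¹ = a'⁻¹ * t := hc _ (K.inv_mem ha')
          exact this.symm }
  have hle : zpowers t ⊔ K ≤ H := by
    rw [sup_le_iff]
    refine ⟨?_, fun k hk => Or.inl hk⟩
    rw [zpowers_le]
    exact Or.inr ⟨1, K.one_mem, by simp⟩
  have hx' : x ∈ zpowers t ⊔ K := by
    rw [hK.2.2.2.2]
    exact hx
  exact hle hx'

theorem exists_inverted [Finite G] {t : G} {K : Subgroup G} {n : ℕ} (ht : orderOf t = 2)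
    (hK : IsInternalDirectProduct (zpowers t) K (centralizer ({t} : Set G)))
    {F : Type} [Field F] [Fintype F] (hF : Fintype.card F = 3 ^ (2 * n + 1))
    (e : K ≃* PSL(2, F)) (hdvd : 3 ^ (2 * n + 2) ∣ Nat.card G) :
    ∃ x : G, orderOf x = 3 ∧ t * x * t⁻¹ = x⁻¹ := by
  have hp3 : Fact (Nat.Prime 3) := ⟨Nat.prime_three⟩
  have hch : CharP F 3 := charP_of_card F (2 * n + 1) hF
  have ht2 : t * t = 1 := by rw [← pow_two, ← ht, pow_orderOf_eq_one]
  have ht1 : t ≠ 1 := by
    rintro rfl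
    rw [orderOf_one] at ht
    omega
  have hc : ∀ k ∈ K, k * t = t * k := fun k hk => (hK.2.2.1 t (mem_zpowers t) k hk).symm
  let φ : PSL(2, F) →* G := K.subtype.comp e.symm.toMonoidHom
  have hφinj : Function.Injective φ := K.subtype_injective.comp e.symm.injective
  have hφK : ∀ a, φ a ∈ K := fun a => (e.symm a).2
  have hφe : ∀ k : K, φ (e k) = k := fun k => by simp [φ]
  set U : Subgroup G := (uP F).map φ with hU
  have hUK : U ≤ K := by
    rintro _ ⟨a, -, rfl⟩
    exact hφK a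
  have hmemU : ∀ k : K, (k : G) ∈ U ↔ e k ∈ uP F := by
    intro k
    constructor
    · rintro ⟨a, ha, h⟩
      have : a = e k := hφinj (by rw [h, hφe])
      rwa [← this]
    · intro h
      exact ⟨e k, h, hφe k⟩
  have hUcomm : ∀ u ∈ U, ∀ v ∈ U, u * v = v * u := by
    rintro _ ⟨a, ha, rfl⟩ _ ⟨b, hb, rfl⟩
    rw [← map_mul, ← map_mul, uP_comm ha hb]
  have htU : t ∈ centralizer (U : Set G) := by
    rw [mem_centralizer_iff]
    intro u hu
    exact hc u (hUK hu)
  have hcentK : ∀ k : K, (k : G) ∈ centralizer (U : Set G) → (k : G) ∈ U := by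
    intro k hk
    rw [hmemU]
    apply cent_uP
    intro u hu
    apply hφinj
    rw [map_mul, map_mul, hφe]
    exact mem_centralizer_iff.1 hk _ ⟨u, hu, rfl⟩
  have hUC : U ≤ centralizer (U : Set G) := fun u hu =>
    mem_centralizer_iff.2 fun v hv => hUcomm v hv u hu
  have hmemt : ∀ x, x ∈ centralizer (U : Set G) → ∀ k, x = t * k → k ∈ centralizer (U : Set G) := by
    intro x hx k h
    have : k = t⁻¹ * x := by rw [h]; group
    rw [this]
    exact mul_mem (inv_mem htU) hx
  have hmemt' : ∀ x, x ∈ normalizer (U : Set G) → ∀ k, x = t * k → k ∈ normalizer (U : Set G) := by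
    intro x hx k h
    have : k = t⁻¹ * x := by rw [h]; group
    rw [this]
    exact mul_mem (inv_mem (centralizer_le_normalizer _ htU)) hx
  have hXT : ∀ x, x * t = t * x → x ∈ centralizer ({t} : Set G) := by
    intro x hx
    rw [mem_centralizer_iff]
    rintro _ rfl
    exact hx.symm
  have D : ReeCore.Data t U :=
    { ht := ht2
      hU3 := by
        rintro _ ⟨a, ha, rfl⟩
        obtain ⟨r, hr⟩ := (uP_isPGroup (F := F) (p := 3)) ⟨a, ha⟩
        refine ⟨r, ?_⟩
        rw [← map_pow]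
        have : a ^ 3 ^ r = 1 := congrArg Subtype.val hr
        rw [this, map_one]
      hUc := hUcomm
      htU := htU
      hCC := by
        intro x hx hxC
        rcases decomp ht2 hK (hXT x hx) with h | ⟨k, hk, rfl⟩
        · exact ⟨x, hcentK ⟨x, h⟩ hxC, Or.inl rfl⟩
        · exact ⟨k, hcentK ⟨k, hk⟩ (hmemt _ hxC k rfl), Or.inr rfl⟩ }
  have hN : ∀ c, c * t = t * c → c ∈ normalizer (U : Set G) →
      ∃ m : ℕ, Nat.Coprime m 3 ∧ c ^ m ∈ centralizer (U : Set G) := by
    -- the statement for elements of `K`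
    have hNK : ∀ k : K, (k : G) ∈ normalizer (U : Set G) →
        ∃ m : ℕ, Nat.Coprime m 3 ∧ (k : G) ^ m ∈ centralizer (U : Set G) := by
      intro k hk
      have hek : e k ∈ normalizer ((uP F : Subgroup PSL(2, F)) : Set PSL(2, F)) := by
        rw [mem_normalizer_iff]
        intro a
        have h1 := mem_normalizer_iff.1 hk (φ a)
        have h2 : φ a ∈ U ↔ a ∈ uP F := by
          constructor
          · rintro ⟨b, hb, h⟩
            rwa [← hφinj h]
          · intro h
            exact ⟨a, h, rfl⟩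
        have h3 : (k : G) * φ a * (k : G)⁻¹ = φ (e k * a * (e k)⁻¹) := by
          rw [map_mul, map_mul, map_inv, hφe]
        have h4 : φ (e k * a * (e k)⁻¹) ∈ U ↔ e k * a * (e k)⁻¹ ∈ uP F := by
          constructor
          · rintro ⟨b, hb, h⟩
            rwa [← hφinj h]
          · intro h
            exact ⟨_, h, rfl⟩
        rw [← h2, h1, h3, h4]
      obtain ⟨a, m, hm, hord⟩ := Nat.exists_eq_pow_mul_and_not_dvd (orderOf_pos (e k)).ne'
        3 (by norm_num)
      refine ⟨m, ?_, ?_⟩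
      · exact (Nat.Coprime.symm ((Nat.Prime.coprime_iff_not_dvd Nat.prime_three).2 hm))
      · have h5 : (e k ^ m) ^ 3 ^ a = 1 := by
          rw [← pow_mul, mul_comm, ← hord, pow_orderOf_eq_one]
        have h6 : e k ^ m ∈ uP F := mem_uP_of_norm (p := 3) (pow_mem hek m) h5
        have h7 : ((k ^ m : K) : G) ∈ U := by
          rw [hmemU, map_pow]
          exact h6
        exact hUC (by simpa using h7)
    intro c hct hcN
    rcases decomp ht2 hK (hXT c hct) with h | ⟨k, hk, rfl⟩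
    · exact hNK ⟨c, h⟩ hcN
    · obtain ⟨m, hm, hkm⟩ := hNK ⟨k, hk⟩ (hmemt' _ hcN k rfl)
      refine ⟨m, hm, ?_⟩
      have hcomm : Commute t k := (hc k hk).symm
      rw [hcomm.mul_pow]
      exact mul_mem (pow_mem htU m) hkm
  have hcardU : Nat.card U = 3 ^ (2 * n + 1) := by
    rw [hU, Nat.card_congr (Subgroup.equivMapOfInjective (uP F) φ hφinj).toEquiv.symm, card_uP', hF]
  obtain ⟨y, hyN, hyU, r, hy3⟩ := exists_norm_elt (p := 3) hcardU (by
    show 3 ^ (2 * n + 1 + 1) ∣ Nat.card G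
    exact hdvd)
  exact ReeCore.main D ht1 hN hyN hyU hy3

/-- The local argument for groups of Ree type: `S₃` is involved. -/
theorem involves_s3 [Finite G] {t : G} {K : Subgroup G} {n : ℕ} (ht : orderOf t = 2)
    (hK : IsInternalDirectProduct (zpowers t) K (centralizer ({t} : Set G)))
    {F : Type} [Field F] [Fintype F] (hF : Fintype.card F = 3 ^ (2 * n + 1))
    (e : K ≃* PSL(2, F)) (hdvd : 3 ^ (2 * n + 2) ∣ Nat.card G) :
    Involves (Equiv.Perm (Fin 3)) G := by
  obtain ⟨x, hx, hinv⟩ := exists_inverted ht hK hF e hdvd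
  have hx3 : x ^ 3 = 1 := by rw [← hx, pow_orderOf_eq_one]
  have hx1 : x ≠ 1 := by
    rintro rfl
    rw [orderOf_one] at hx
    omega
  have ht2 : t * t = 1 := by rw [← pow_two, ← ht, pow_orderOf_eq_one]
  exact Sec.involves_s3_of_inverted hx3 hx1 ht2 hinv

end Main

end Cfsg.Agent.Lib.Gold.Ree
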