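import Mathlib
import Cfsg.Prelude.Def_LocalEven
import Cfsg.Agent.Lib.Gold.ReeHab
import Cfsg.Agent.Lib.Gold.Ree

/-!
# S2755, groups of Ree type: the case of the case split, with S0343 as a hypothesis
-/

set_option autoImplicit false

namespace Cfsg.Agent.Lib.Gold.ReeFinal

open Subgroup Cfsg

/-- The Ree case, with the statement of S0343 for `G` as a hypothesis. -/
theorem ree_case {G : Type*} [Group G] [Finite G]
    (h0343 : IsSimpleGroup G → (∀ P : Sylow 2 G, ∀ a b : P, a * b = b * a) →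
      ∀ (F : Type) [Field F] [Fintype F], 3 ≤ Fintype.card F → ∀ (t : G), orderOf t = 2 →
      Nonempty (Subgroup.centralizer ({t} : Set G) ≃*
        Multiplicative (ZMod 2) × Matrix.ProjectiveSpecialLinearGroup (Fin 2) F) →
      (∃ m : ℕ, 1 ≤ m ∧ Fintype.card F = 3 ^ (2 * m + 1) ∧
        Nat.card G = (3 ^ (2 * m + 1)) ^ 3 * ((3 ^ (2 * m + 1)) ^ 3 + 1) * (3 ^ (2 * m + 1) - 1)) ∨
      ((Fintype.card F = 4 ∨ Fintype.card F = 5) ∧ Cfsg.IsJ1 G))
    (hR : IsReeType G) :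
    ¬ Involves (Equiv.Perm (Fin 4)) G ∧ Involves (Equiv.Perm (Fin 3)) G := by
  refine ⟨ReeHab.not_s4 hR, ?_⟩
  have hS : IsSimpleGroup G := hR.1
  obtain ⟨t, K, n, F, iF, fF, hn, ht, hodd, hInt, hF, ⟨e⟩, hC, hab⟩ := ReeHab.ree_data hR
  have h27 : 27 ≤ 3 ^ (2 * n + 1) := by
    calc 27 = 3 ^ 3 := by norm_num
      _ ≤ 3 ^ (2 * n + 1) := Nat.pow_le_pow_right (by norm_num) (by omega)
  rcases h0343 hS hab F (by rw [hF]; omega) t ht hC with ⟨m, -, hFm, hcard⟩ | ⟨h45, -⟩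
  · refine Ree.involves_s3 ht hInt hF e ?_
    rw [hcard, ← hFm, hF]
    have h1 : 3 ^ (2 * n + 2) ∣ (3 ^ (2 * n + 1)) ^ 3 := by
      refine ⟨3 ^ (4 * n + 1), ?_⟩
      ring
    exact Dvd.dvd.mul_right (Dvd.dvd.mul_right h1 _) _
  · exfalso
    rw [hF] at h45
    omega

end Cfsg.Agent.Lib.Gold.ReeFinal
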